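import Groth.Agent.TorsBound.Bound
import Groth.Agent.GrpSchLib.FieldAllComp

/-!
Torsion component sets are stable under generization.
-/

set_option autoImplicit false

universe u

open CategoryTheory CategoryTheory.Limits MonoidalCategory CartesianMonoidalCategory MonObj GrpObj AlgebraicGeometry
open Topology TopologicalSpace

attribute [local instance] CategoryTheory.Hom.monoid CategoryTheory.Hom.group

namespace Groth.Agent.TorsBound

variable {S : Scheme.{u}} {G : Over S} [GrpObj G]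

theorem pow_comp {T : Over S} (φ : T ⟶ G) (n : ℕ) : φ ≫ (𝟙 G : G ⟶ G) ^ n = φ ^ n := by
  rw [MonObj.comp_pow, Category.comp_id]

/-- A compact open neighbourhood of the neutral components over a neighbourhood in the base. -/
theorem exists_qc_nhd (s : S) : ∃ (V : S.Opens) (W : G.left.Opens), s ∈ V ∧ IsCompact (W : Set G.left) ∧
    SGA3x.neutralSet G ∩ G.hom ⁻¹' (V : Set S) ⊆ W := by
  classical
  obtain ⟨V, C, hsV, -, hC, -, hNC⟩ := GrpSchLib.Neutral.exists_compact G s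
  have haff : ∀ x : G.left, ∃ W : G.left.Opens, IsAffineOpen W ∧ x ∈ W := fun x => by
    obtain ⟨W, hW, hxW, -⟩ := exists_isAffineOpen_mem_and_subset (show x ∈ (⊤ : G.left.Opens) from trivial)
    exact ⟨W, hW, hxW⟩
  choose W hW hxW using haff
  obtain ⟨F, hF⟩ := hC.elim_finite_subcover (fun x => (W x : Set G.left)) (fun x => (W x).isOpen)
    (fun x _ => Set.mem_iUnion.2 ⟨x, hxW x⟩)
  exact ⟨V, ⟨⋃ x ∈ F, (W x : Set G.left), isOpen_biUnion fun x _ => (W x).isOpen⟩, hsV,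
    F.isCompact_biUnion fun x _ => (hW x).isCompact, hNC.trans hF⟩

/-- In a family indexed by the natural numbers of points of a Noetherian space, two lie in a common
irreducible set. -/
theorem exists_lt_irreducible {X : Type*} [TopologicalSpace X] [NoetherianSpace X] (p : ℕ → X) :
    ∃ i j, i < j ∧ ∃ Z : Set X, IsIrreducible Z ∧ p i ∈ Z ∧ p j ∈ Z := by
  obtain ⟨F, hF, hFc, hFi, hTF⟩ :=
    NoetherianSpace.exists_finite_set_isClosed_irreducible (α := X) isClosed_univ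
  have hp : ∀ j, ∃ Z : F, p j ∈ (Z : Set X) := fun j => by
    obtain ⟨Z, hZ, hpZ⟩ := Set.mem_sUnion.1 (hTF ▸ Set.mem_univ (p j))
    exact ⟨⟨Z, hZ⟩, hpZ⟩
  choose Z hZ using hp
  have : Finite F := hF.to_subtype
  obtain ⟨i, j, hne, he⟩ := Finite.exists_ne_map_eq_of_infinite Z
  rcases hne.lt_or_gt with h | h
  · exact ⟨i, j, h, Z i, hFi _ (Z i).2, hZ i, he ▸ hZ j⟩
  · exact ⟨j, i, h, Z i, hFi _ (Z i).2, he ▸ hZ j, hZ i⟩

variable [IsLocallyNoetherian S] [LocallyOfFiniteType G.hom]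

omit [IsLocallyNoetherian S] in
/-- A generization of a point of a neutral component is torsion in the component group. -/
theorem exists_pow_mem_of_specializes {x y : G.left} (hxy : y ⤳ x) (hx : x ∈ SGA3x.neutralSet G) :
    ∃ d, 0 < d ∧ ((𝟙 G : G ⟶ G) ^ d).left y ∈ SGA3x.neutralSet G := by
  obtain ⟨V, W, hxV, hW, hNW⟩ := exists_qc_nhd (G := G) (G.hom x)
  have hyW : ∀ j : ℕ, ((𝟙 G : G ⟶ G) ^ j).left y ∈ W := fun j => by
    refine (hxy.map ((𝟙 G : G ⟶ G) ^ j).left.continuous).mem_open W.isOpen (hNW ⟨?_, ?_⟩)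
    · have h := pow_mem x 1 (by rw [pow_one]; exact hx) j
      rwa [Nat.one_mul] at h
    · show G.hom _ ∈ V
      rw [hom_pow]; exact hxV
  let T : Over S := Over.mk (G.left.fromSpecResidueField y ≫ G.hom)
  let φ : T ⟶ G := Over.homMk (G.left.fromSpecResidueField y) rfl
  let o : T.left := IsLocalRing.closedPoint (G.left.residueField y)
  have hφ : ∀ j : ℕ, (φ ^ j).left o = ((𝟙 G : G ⟶ G) ^ j).left y := fun j => by
    rw [← pow_comp φ j, Over.comp_left, Scheme.Hom.comp_apply]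
    exact congrArg _ (Scheme.fromSpecResidueField_apply _ _)
  have : IsLocallyNoetherian T.left :=
    inferInstanceAs (IsLocallyNoetherian (Spec (CommRingCat.of (G.left.residueField y))))
  have : LocallyOfFiniteType (snd G T).left := inferInstanceAs (LocallyOfFiniteType (pullback.snd G.hom T.hom))
  have : IsLocallyNoetherian (G ⊗ T).left := LocallyOfFiniteType.isLocallyNoetherian (snd G T).left
  have : QuasiCompact T.hom := inferInstanceAs (QuasiCompact (G.left.fromSpecResidueField y ≫ G.hom))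
  have : QuasiCompact (fst G T).left := inferInstanceAs (QuasiCompact (pullback.fst G.hom T.hom))
  let W' : (G ⊗ T).left.Opens := (fst G T).left ⁻¹ᵁ W
  have : CompactSpace W'.toScheme :=
    isCompact_iff_compactSpace.1 (QuasiCompact.isCompact_preimage (f := (fst G T).left) _ W.isOpen hW)
  have : IsNoetherian W'.toScheme := {}
  let p : ℕ → W'.toScheme := fun j => ⟨(lift (φ ^ j) (𝟙 T)).left o, by
    show (fst G T).left ((lift (φ ^ j) (𝟙 T)).left o) ∈ W
    rw [← Scheme.Hom.comp_apply, ← Over.comp_left, lift_fst, hφ]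
    exact hyW j⟩
  obtain ⟨i, j, hij, Z, hZ, hiZ, hjZ⟩ := exists_lt_irreducible p
  let τ : G ⊗ T ⟶ G := fst G T * (snd G T ≫ φ ^ i)⁻¹
  have hτ : ∀ k, τ.left (W'.ι (p k)) = (φ ^ k * (φ ^ i)⁻¹).left o := fun k => by
    show τ.left ((lift (φ ^ k) (𝟙 T)).left o) = _
    rw [← Scheme.Hom.comp_apply, ← Over.comp_left, MonObj.comp_mul, GrpObj.comp_inv, lift_fst,
      lift_snd_assoc, Category.id_comp]
  have hπ : ∀ z, G.hom (τ.left z) = G.hom y := fun z => by
    rw [← Scheme.Hom.comp_apply, Over.w τ]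
    show ((fst G T).left ≫ G.hom) z = _
    rw [show (fst G T).left ≫ G.hom = (snd G T).left ≫ T.hom from pullback.condition]
    show G.hom (G.left.fromSpecResidueField y ((snd G T).left z)) = _
    rw [Scheme.fromSpecResidueField_apply]
  have hconn : _root_.IsPreconnected ((fun z => τ.left (W'.ι z)) '' Z) :=
    hZ.isPreirreducible.isPreconnected.image _ (τ.left.continuous.comp W'.ι.continuous).continuousOn
  have hone : τ.left (W'.ι (p i)) = GrpSchLib.Neutral.unit G (G.hom y) := by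
    rw [hτ, mul_inv_cancel, show (1 : T ⟶ G) = toUnit T ≫ η[G] from
      (MonObj.one_eq_one (M := G)) ▸ (MonObj.comp_one _).symm]
    show GrpSchLib.Neutral.unit G (T.hom o) = _
    exact congrArg _ (congrArg G.hom (Scheme.fromSpecResidueField_apply _ _))
  refine ⟨j - i, Nat.sub_pos_of_lt hij, ?_⟩
  have hj : τ.left (W'.ι (p j)) = ((𝟙 G : G ⟶ G) ^ (j - i)).left y := by
    rw [hτ, mul_inv_eq_iff_eq_mul.2 (by rw [← pow_add, Nat.sub_add_cancel hij.le] : φ ^ j = φ ^ (j - i) * φ ^ i), hφ]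
  rw [GrpSchLib.Neutral.mem_neutralSet_iff, hom_pow, ← hj]
  refine hconn.subset_connectedComponentIn ⟨p i, hiZ, hone⟩ ?_ ⟨p j, hjZ, rfl⟩
  rintro _ ⟨z, -, rfl⟩
  exact hπ _

omit [IsLocallyNoetherian S] in
/-- The connected components of the identity are divisible by any exponent whose power map is open. -/
theorem exists_pow_preimage [IsCommMonObj G] (b : ℕ) (hb : IsOpenMap ((𝟙 G : G ⟶ G) ^ b).left) {x : G.left}
    (hx : x ∈ SGA3x.neutralSet G) :
    ∃ u ∈ SGA3x.neutralSet G, ((𝟙 G : G ⟶ G) ^ b).left u = x := by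
  let s := G.hom x
  let σ : Spec (CommRingCat.of (S.residueField s)) ⟶ S := S.fromSpecResidueField s
  let H := Red.bc σ G
  have : LocallyOfFiniteType H.hom := inferInstanceAs (LocallyOfFiniteType (pullback.snd G.hom σ))
  have : IsLocallyNoetherian H.left := LocallyOfFiniteType.isLocallyNoetherian H.hom
  have hop : IsOpen (SGA3x.neutralSet H) := by
    rw [Deform.Neutral.neutralSet_field H]
    exact GrpSchLib.isOpen_connectedComponent (G := H) _
  let q := pullback.fst G.hom σ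
  have hind : IsInducing q := (Scheme.Hom.fiberι G.hom s).isEmbedding.isInducing
  obtain ⟨O, hO, hOq⟩ := hind.isOpen_iff.1 hop
  rw [show SGA3x.neutralSet H = q ⁻¹' SGA3x.neutralSet G from GrpSchLib.Neutral.neutralSet_bc G σ] at hOq
  have hON : ∀ z : G.left, G.hom z = s → (z ∈ O ↔ z ∈ SGA3x.neutralSet G) := fun z hz => by
    obtain ⟨z', rfl⟩ : z ∈ Set.range q := (Scheme.Hom.range_fiberι G.hom s).ge hz
    exact Set.ext_iff.1 hOq z'
  let g := (𝟙 G : G ⟶ G) ^ b
  let O' : G.left.Opens := ⟨g.left '' O, hb O hO⟩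
  have he : GrpSchLib.Neutral.unit G (G.hom x) ∈ O' := by
    refine ⟨GrpSchLib.Neutral.unit G s,
      (hON _ (GrpSchLib.Neutral.hom_unit G s)).2 (GrpSchLib.Neutral.unit_mem_neutralSet G s), ?_⟩
    have h : η[G] ≫ g = η[G] := by
      show η[G] ≫ (𝟙 G : G ⟶ G) ^ b = _
      rw [pow_comp, MonObj.one_eq_one, one_pow]
    exact congrArg (fun f : 𝟙_ (Over S) ⟶ G => f.left s) h
  obtain ⟨p, hp1, hp2, hp⟩ := GrpSchLib.Neutral.exists_mul G hx O' he
  let Oo : G.left.Opens := ⟨O, hO⟩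
  let a : (Over.mk (Oo.ι ≫ G.hom)) ⟶ G := Over.homMk Oo.ι rfl
  have hr : Set.range (a ≫ g).left = (O' : Set G.left) := by
    show Set.range (⇑g.left ∘ ⇑Oo.ι) = _
    rw [Set.range_comp, Scheme.Opens.range_ι]
    rfl
  let Q := Over.mk (Oo.ι ≫ G.hom)
  let m : (Q ⊗ Q).left ⟶ (G ⊗ G).left :=
    pullback.map Q.hom Q.hom G.hom G.hom (a ≫ g).left (a ≫ g).left (𝟙 S)
      (by rw [Category.comp_id, Over.w]) (by rw [Category.comp_id, Over.w])
  obtain ⟨z, hz⟩ : p ∈ Set.range m := by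
    refine (Scheme.Pullback.range_map _ _ _ _ _ _ _ _ _).ge ⟨?_, ?_⟩
    · show (fst G G).left p ∈ Set.range (a ≫ g).left
      rw [hr]; exact hp1
    · show (snd G G).left p ∈ Set.range (a ≫ g).left
      rw [hr]; exact hp2
  let c : Q ⊗ Q ⟶ G := (fst Q Q ≫ a) * (snd Q Q ≫ a)
  have hc : c.left ≫ g.left = m ≫ μ[G].left := by
    have h1 : c ≫ g = lift (fst Q Q ≫ a ≫ g) (snd Q Q ≫ a ≫ g) ≫ μ[G] := by
      show c ≫ (𝟙 G : G ⟶ G) ^ b = _
      rw [pow_comp, mul_pow, ← Hom.mul_def]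
      simp only [g, MonObj.comp_pow, Category.comp_id]
    have h2 : (lift (fst Q Q ≫ a ≫ g) (snd Q Q ≫ a ≫ g)).left = m := by
      refine pullback.hom_ext ?_ ?_
      · exact (congrArg CommaMorphism.left (lift_fst (fst Q Q ≫ a ≫ g) (snd Q Q ≫ a ≫ g))).trans
          (pullback.lift_fst _ _ _).symm
      · exact (congrArg CommaMorphism.left (lift_snd (fst Q Q ≫ a ≫ g) (snd Q Q ≫ a ≫ g))).trans
          (pullback.lift_snd _ _ _).symm
    rw [← Over.comp_left, h1, Over.comp_left, h2]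
  have hgc : g.left (c.left z) = x := by
    rw [← Scheme.Hom.comp_apply, hc, Scheme.Hom.comp_apply, hz, hp]
  refine ⟨c.left z, ?_, hgc⟩
  have hs : G.hom (c.left z) = s := by rw [← hom_pow (c.left z) b]; exact congrArg G.hom hgc
  have hmem : ∀ (π : Q ⊗ Q ⟶ Q), (π ≫ a).left z ∈ SGA3x.neutralSet G := fun π => by
    have h1 : G.hom ((π ≫ a).left z) = G.hom (c.left z) := by
      rw [← Scheme.Hom.comp_apply, ← Scheme.Hom.comp_apply, Over.w, Over.w]
    exact (hON _ (h1.trans hs)).1 (show Oo.ι (π.left z) ∈ O from (π.left z).2)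
  exact Deform.Neutral.mul_mem _ _ z (hmem (fst Q Q)) (hmem (snd Q Q))

/-- A generization in which an exponent with open power map kills the component lies in the neutral
component. -/
theorem mem_of_specializes_of_open [IsCommMonObj G] (b : ℕ) (hb : ∀ i, IsOpenMap ((𝟙 G : G ⟶ G) ^ (b ^ i)).left)
    {x y : G.left} (hxy : y ⤳ x) (hx : x ∈ SGA3x.neutralSet G)
    (hy : ((𝟙 G : G ⟶ G) ^ b).left y ∈ SGA3x.neutralSet G) : y ∈ SGA3x.neutralSet G := by
  have : IsLocallyNoetherian G.left := LocallyOfFiniteType.isLocallyNoetherian G.hom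
  obtain ⟨V, W, hxV, hW, hNW⟩ := exists_qc_nhd (G := G) (G.hom x)
  have hw : ∀ i : ℕ, ∃ w ∈ W, ((𝟙 G : G ⟶ G) ^ (b ^ i)).left w = y := fun i => by
    obtain ⟨u, hu, hux⟩ := exists_pow_preimage (b ^ i) (hb i) hx
    have huW : u ∈ W := hNW ⟨hu, show G.hom u ∈ V by rw [← hom_pow u (b ^ i), hux]; exact hxV⟩
    obtain ⟨w, hw, hwy⟩ := hxy.mem_open (hb i _ W.isOpen) ⟨u, huW, hux⟩
    exact ⟨w, hw, hwy⟩
  choose w hwW hwy using hw
  have : CompactSpace W.toScheme := isCompact_iff_compactSpace.1 hW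
  have : IsNoetherian W.toScheme := {}
  have hwη : ∀ i, G.hom (w i) = G.hom y := fun i => by rw [← hwy i, hom_pow]
  let Fib : Set W.toScheme := W.ι ⁻¹' (G.hom ⁻¹' {G.hom y})
  have : NoetherianSpace Fib := Topology.IsInducing.subtypeVal.noetherianSpace
  obtain ⟨i, j, hij, Z, hZ, hiZ, hjZ⟩ :=
    exists_lt_irreducible (fun i => (⟨⟨w i, hwW i⟩, hwη i⟩ : Fib))
  let f : Fib → G.left := fun z => ((𝟙 G : G ⟶ G) ^ (b ^ j)).left (W.ι z.1)
  let f' : Fib → G.left := fun z => ((𝟙 G : G ⟶ G) ^ (b ^ (j - i))).left (((𝟙 G : G ⟶ G) ^ (b ^ i)).left (W.ι z.1))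
  have hff : ∀ z, f' z = f z := fun z => by
    show ((𝟙 G : G ⟶ G) ^ (b ^ (j - i))).left (((𝟙 G : G ⟶ G) ^ (b ^ i)).left (W.ι z.1)) =
      ((𝟙 G : G ⟶ G) ^ (b ^ j)).left (W.ι z.1)
    generalize W.ι z.1 = v
    rw [← Scheme.Hom.comp_apply, ← Over.comp_left, pow_comp, ← pow_mul, ← pow_add, Nat.add_sub_cancel' hij.le]
  have hf : Continuous f :=
    ((𝟙 G : G ⟶ G) ^ (b ^ j)).left.continuous.comp (W.ι.continuous.comp continuous_subtype_val)
  have hconn : _root_.IsPreconnected (f '' Z) := hZ.isPreirreducible.isPreconnected.image f hf.continuousOn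
  have hj : f ⟨⟨w j, hwW j⟩, hwη j⟩ = y := hwy j
  have hi : f ⟨⟨w i, hwW i⟩, hwη i⟩ = ((𝟙 G : G ⟶ G) ^ (b ^ (j - i))).left y := by
    rw [← hff]; exact congrArg _ (hwy i)
  have hN : ((𝟙 G : G ⟶ G) ^ (b ^ (j - i))).left y ∈ SGA3x.neutralSet G := by
    obtain ⟨q, hq⟩ := dvd_pow_self b (Nat.sub_ne_zero_of_lt hij)
    rw [hq]; exact pow_mem y b hy q
  rw [GrpSchLib.Neutral.mem_neutralSet_iff, hom_pow] at hN
  rw [GrpSchLib.Neutral.mem_neutralSet_iff, connectedComponentIn_eq hN]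
  refine hconn.subset_connectedComponentIn ⟨_, hiZ, hi⟩ ?_ ⟨_, hjZ, hj⟩
  rintro _ ⟨z, -, rfl⟩
  show G.hom (f z) = G.hom y
  rw [hom_pow]; exact z.2

end Groth.Agent.TorsBound
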