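import Groth.Agent.TorsBound.Gen

/-!
Local boundedness of the torsion orders in the component groups, when the neutral components form a closed set.
-/

set_option autoImplicit false

universe u

open CategoryTheory CategoryTheory.Limits MonoidalCategory CartesianMonoidalCategory MonObj GrpObj AlgebraicGeometry
open Topology TopologicalSpace

attribute [local instance] CategoryTheory.Hom.monoid CategoryTheory.Hom.group

namespace Groth.Agent.TorsBound

variable {S : Scheme.{u}} {G : Over S} [GrpObj G]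

theorem pow_mem (x : G.left) (d : ℕ) (hd : ((𝟙 G : G ⟶ G) ^ d).left x ∈ SGA3x.neutralSet G) :
    ∀ q : ℕ, ((𝟙 G : G ⟶ G) ^ (d * q)).left x ∈ SGA3x.neutralSet G
  | 0 => by
    rw [Nat.mul_zero, pow_zero]
    exact Deform.Neutral.one_mem (G := G) (T := G) x
  | q + 1 => by
    rw [Nat.mul_succ, pow_add]
    exact Deform.Neutral.mul_mem _ _ x (pow_mem x d hd q) hd

theorem mod_mem (x : G.left) (d m : ℕ) (hd : ((𝟙 G : G ⟶ G) ^ d).left x ∈ SGA3x.neutralSet G)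
    (hm : ((𝟙 G : G ⟶ G) ^ m).left x ∈ SGA3x.neutralSet G) :
    ((𝟙 G : G ⟶ G) ^ (m % d)).left x ∈ SGA3x.neutralSet G := by
  have h := Deform.Neutral.div_mem _ _ x hm (pow_mem x d hd (m / d))
  have e : (𝟙 G : G ⟶ G) ^ m * ((𝟙 G : G ⟶ G) ^ (d * (m / d)))⁻¹ = (𝟙 G : G ⟶ G) ^ (m % d) := by
    rw [mul_inv_eq_iff_eq_mul, ← pow_add, Nat.mod_add_div]
  rwa [e] at h

theorem hom_pow (x : G.left) (m : ℕ) : G.hom (((𝟙 G : G ⟶ G) ^ m).left x) = G.hom x := by
  rw [← Scheme.Hom.comp_apply, Over.w]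

variable [IsLocallyNoetherian S] [LocallyOfFiniteType G.hom] (h0 : IsClosed (SGA3x.neutralSet G))

include h0 in
/-- Torsion orders are bounded on an affine open. -/
theorem exists_bound {W : G.left.Opens} (hW : IsAffineOpen W) {V : S.Opens} (hV : IsAffineOpen V)
    (hWV : W ≤ G.hom ⁻¹ᵁ V) :
    ∃ B : ℕ, ∀ x ∈ W, ∀ m : ℕ, 0 < m → ((𝟙 G : G ⟶ G) ^ m).left x ∈ SGA3x.neutralSet G →
      ∃ d, 0 < d ∧ d ≤ B ∧ d ∣ m ∧ ((𝟙 G : G ⟶ G) ^ d).left x ∈ SGA3x.neutralSet G := by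
  classical
  have : IsLocallyNoetherian G.left := LocallyOfFiniteType.isLocallyNoetherian G.hom
  have : IsAffine V.toScheme := hV
  have : IsNoetherian V.toScheme := {}
  have : IsAffine W.toScheme := hW
  have : IsNoetherian W.toScheme := {}
  suffices h : ∀ T : Closeds V.toScheme, ∃ B : ℕ, ∀ x, ∀ hx : x ∈ W, (⟨G.hom x, hWV hx⟩ : V.toScheme) ∈ T →
      ∀ m : ℕ, 0 < m → ((𝟙 G : G ⟶ G) ^ m).left x ∈ SGA3x.neutralSet G →
        ∃ d, 0 < d ∧ d ≤ B ∧ d ∣ m ∧ ((𝟙 G : G ⟶ G) ^ d).left x ∈ SGA3x.neutralSet G by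
    obtain ⟨B, hB⟩ := h ⊤
    exact ⟨B, fun x hx => hB x hx trivial⟩
  intro T
  induction T using WellFoundedLT.induction with
  | _ T ih =>
    rcases (T : Set V.toScheme).eq_empty_or_nonempty with hT | hT
    · exact ⟨0, fun x hx hxT => absurd (show _ ∈ (T : Set V.toScheme) from hxT) (hT ▸ Set.notMem_empty _)⟩
    -- a maximal point of `T`
    obtain ⟨s, hsT, hmax⟩ : ∃ s ∈ T, ∀ t ∈ T, t ⤳ s → t = s := by
      obtain ⟨F, hF, hFc, hFi, hTF⟩ := NoetherianSpace.exists_finite_set_isClosed_irreducible T.isClosed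
      obtain ⟨Z, hZ, hZm⟩ := hF.exists_maximal (Set.nonempty_iff_ne_empty.2 fun he => by
        rw [he, Set.sUnion_empty] at hTF
        exact hT.ne_empty hTF)
      have hZi := hFi Z hZ
      have hZc := hFc Z hZ
      obtain ⟨s, hs⟩ := QuasiSober.sober hZi hZc
      refine ⟨s, show s ∈ (T : Set V.toScheme) from hTF ▸ Set.mem_sUnion_of_mem hs.mem hZ, fun t ht hts => ?_⟩
      obtain ⟨Z', hZ', htZ'⟩ := Set.mem_sUnion.1 (hTF ▸ (show t ∈ (T : Set V.toScheme) from ht))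
      have hsZ' : s ∈ Z' := hts.mem_closed (hFc Z' hZ') htZ'
      have hsub : Z ⊆ Z' := hs.def ▸ (hFc Z' hZ').closure_subset_iff.2 (Set.singleton_subset_iff.2 hsZ')
      have hst : s ⤳ t := hs.specializes (hZm hZ' hsub htZ')
      exact (hts.antisymm hst).eq
    -- stability near that point
    let T' : Set S := closure (V.ι '' T)
    have hTT' : ∀ t : V.toScheme, V.ι t ∈ T' ↔ t ∈ T := fun t => by
      refine ⟨fun h => ?_, fun h => subset_closure ⟨t, h, rfl⟩⟩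
      have h' : t ∈ closure (T : Set V.toScheme) := by
        rw [V.ι.isOpenEmbedding.isInducing.closure_eq_preimage_closure_image]; exact h
      exact T.isClosed.closure_subset h'
    obtain ⟨U, hsU, hU⟩ := exists_gen_stable (G := G) (T := T') isClosed_closure (s := V.ι s) fun t ht hts => by
      have htV : t ∈ V := hts.mem_open V.isOpen s.2
      let t' : V.toScheme := ⟨t, htV⟩
      have h1 : t' ⤳ s := V.ι.isOpenEmbedding.isInducing.specializes_iff.1 hts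
      exact congrArg V.ι (hmax t' ((hTT' t').1 ht) h1)
    let Tc : Closeds V.toScheme := ⟨(T : Set V.toScheme) \ V.ι ⁻¹' U, T.isClosed.sdiff (U.isOpen.preimage V.ι.continuous)⟩
    have hlt : Tc < T := lt_of_le_of_ne (fun t ht => ht.1) fun h => by
      have : s ∈ Tc := h ▸ hsT
      exact this.2 hsU
    obtain ⟨B', hB'⟩ := ih Tc hlt
    -- maximal points of the part of `W` over `T`
    let φ : W.toScheme → S := fun w => G.hom (W.ι w)
    have hWT : IsClosed (φ ⁻¹' T') := isClosed_closure.preimage (G.hom.continuous.comp W.ι.continuous)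
    obtain ⟨F, hF, hFc, hFi, hTF⟩ := NoetherianSpace.exists_finite_set_isClosed_irreducible hWT
    have hgen : ∀ Z : F, ∃ ζ, IsGenericPoint ζ (Z : Set W.toScheme) := fun Z =>
      QuasiSober.sober (hFi Z Z.2) (hFc Z Z.2)
    choose ζ hζ using hgen
    let δ : F → ℕ := fun Z => if h : ∃ d, 0 < d ∧ ((𝟙 G : G ⟶ G) ^ d).left (W.ι (ζ Z)) ∈ SGA3x.neutralSet G
      then Nat.find h else 0
    have : Fintype F := hF.fintype
    refine ⟨max B' (Finset.univ.sup δ), fun x hxW hxT m hm hxm => ?_⟩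
    by_cases hxU : G.hom x ∈ U
    · let x' : W.toScheme := ⟨x, hxW⟩
      have hx' : x' ∈ φ ⁻¹' T' := (hTT' ⟨G.hom x, hWV hxW⟩).2 hxT
      obtain ⟨Z, hZ, hxZ⟩ := Set.mem_sUnion.1 (hTF ▸ hx')
      let z := W.ι (ζ ⟨Z, hZ⟩)
      have hzx : z ⤳ x := ((hζ ⟨Z, hZ⟩).specializes hxZ).map W.ι.continuous
      have hzT : G.hom z ∈ T' := show ζ ⟨Z, hZ⟩ ∈ φ ⁻¹' T' from hTF ▸ Set.mem_sUnion_of_mem (hζ ⟨Z, hZ⟩).mem hZ
      have hup : ∀ j, ((𝟙 G : G ⟶ G) ^ j).left x ∈ SGA3x.neutralSet G →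
          ((𝟙 G : G ⟶ G) ^ j).left z ∈ SGA3x.neutralSet G := fun j hj =>
        hU _ _ (hzx.map ((𝟙 G : G ⟶ G) ^ j).left.continuous) ((hom_pow x j).symm ▸ hxU) ((hom_pow z j).symm ▸ hzT) hj
      have hz : ∃ d, 0 < d ∧ ((𝟙 G : G ⟶ G) ^ d).left z ∈ SGA3x.neutralSet G := ⟨m, hm, hup m hxm⟩
      have hδ : δ ⟨Z, hZ⟩ = Nat.find hz := dif_pos hz
      obtain ⟨hd0, hd⟩ := Nat.find_spec hz
      refine ⟨Nat.find hz, hd0, ?_, ?_, ?_⟩
      · rw [← hδ]
        exact (Finset.le_sup (Finset.mem_univ _)).trans (le_max_right _ _)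
      · refine Nat.dvd_of_mod_eq_zero ?_
        by_contra hne
        exact Nat.find_min hz (Nat.mod_lt _ hd0) ⟨Nat.pos_of_ne_zero hne, mod_mem z _ m hd (hup m hxm)⟩
      · exact (hzx.map ((𝟙 G : G ⟶ G) ^ Nat.find hz).left.continuous).mem_closed h0 hd
    · obtain ⟨d, hd0, hdB, hdm, hd⟩ := hB' x hxW ⟨hxT, hxU⟩ m hm hxm
      exact ⟨d, hd0, hdB.trans (le_max_left _ _), hdm, hd⟩

include h0 in
/-- The torsion points with allowed orders form a closed set. -/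
theorem isClosed_torsion (A : S → ℕ → Prop) (hdvd : ∀ s d m, d ∣ m → A s m → A s d)
    (hA : ∀ m, 0 < m → IsClosed {s | A s m}) :
    IsClosed {x : G.left | ∃ m, 0 < m ∧ A (G.hom x) m ∧ ((𝟙 G : G ⟶ G) ^ m).left x ∈ SGA3x.neutralSet G} := by
  rw [← isOpen_compl_iff, isOpen_iff_forall_mem_open]
  intro x hx
  obtain ⟨V, hV, hxV, -⟩ := exists_isAffineOpen_mem_and_subset (show G.hom x ∈ (⊤ : S.Opens) from trivial)
  obtain ⟨W, hW, hxW, hWV⟩ := exists_isAffineOpen_mem_and_subset (show x ∈ G.hom ⁻¹ᵁ V from hxV)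
  obtain ⟨B, hB⟩ := exists_bound h0 hW hV hWV
  let X : ℕ → Set G.left := fun d =>
    G.hom ⁻¹' {s | A s (d + 1)} ∩ ((𝟙 G : G ⟶ G) ^ (d + 1)).left ⁻¹' SGA3x.neutralSet G
  have hX : IsClosed (⋃ d ∈ Finset.range B, X d) := isClosed_biUnion_finset fun d _ =>
    ((hA _ d.succ_pos).preimage G.hom.continuous).inter (h0.preimage ((𝟙 G : G ⟶ G) ^ (d + 1)).left.continuous)
  refine ⟨(W : Set G.left) ∩ (⋃ d ∈ Finset.range B, X d)ᶜ, ?_, W.isOpen.inter hX.isOpen_compl, hxW, fun h => ?_⟩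
  · rintro y ⟨hyW, hy⟩ ⟨m, hm, hAm, hym⟩
    obtain ⟨d, hd0, hdB, hdm, hd⟩ := hB y hyW m hm hym
    obtain ⟨d, rfl⟩ := Nat.exists_eq_succ_of_ne_zero hd0.ne'
    exact hy (Set.mem_iUnion₂.2 ⟨d, Finset.mem_range.2 hdB, hdvd _ _ _ hdm hAm, hd⟩)
  · obtain ⟨d, -, hd⟩ := Set.mem_iUnion₂.1 h
    exact hx ⟨d + 1, d.succ_pos, hd.1, hd.2⟩

end Groth.Agent.TorsBound
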