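import Groth.Agent.TorsBound.Gen
import Groth.Agent.AnPts.Constr
import Groth.Agent.GrpSchLib.Neutral

/-!
Generic openness of the union of the neutral components.
-/

set_option autoImplicit false

universe u

open CategoryTheory CategoryTheory.Limits MonoidalCategory CartesianMonoidalCategory MonObj GrpObj AlgebraicGeometry
open Topology TopologicalSpace

attribute [local instance] CategoryTheory.Hom.monoid CategoryTheory.Hom.group

namespace Groth.Agent.TorsBound

theorem isProConstructible_of_isLocallyConstructible {X : Type u} [TopologicalSpace X] {E : Set X}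
    (hE : IsLocallyConstructible E) : ProCons.IsProConstructible E := fun x => by
  obtain ⟨U, hU, hUo, hc⟩ := hE x
  exact ⟨U, hUo, mem_of_mem_nhds hU, {Subtype.val ⁻¹' E}, fun T hT => by
    rw [Set.mem_singleton_iff.1 hT]; exact hc.isLocallyConstructible, (Set.sInter_singleton _).symm⟩

variable {S : Scheme.{u}} [IsLocallyNoetherian S]

/-- A nonempty locally Noetherian scheme has a nonempty open subset inside the closure of one point. -/
theorem exists_open_irreducible [Nonempty S] : ∃ (s : S) (U : S.Opens), s ∈ U ∧ ∀ t ∈ U, s ⤳ t := by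
  classical
  obtain ⟨x⟩ := ‹Nonempty S›
  obtain ⟨V, hV, hxV, -⟩ := exists_isAffineOpen_mem_and_subset (show x ∈ (⊤ : S.Opens) from trivial)
  have : IsAffine V.toScheme := hV
  have : IsNoetherian V.toScheme := {}
  obtain ⟨F, hF, hFc, hFi, hTF⟩ :=
    NoetherianSpace.exists_finite_set_isClosed_irreducible (α := V.toScheme) isClosed_univ
  obtain ⟨Z, hZ, hZm⟩ := hF.exists_maximal (Set.nonempty_iff_ne_empty.2 fun he => by
    rw [he, Set.sUnion_empty] at hTF
    exact (Set.nonempty_of_mem (Set.mem_univ (⟨x, hxV⟩ : V.toScheme))).ne_empty hTF)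
  obtain ⟨ζ, hζ⟩ := QuasiSober.sober (hFi Z hZ) (hFc Z hZ)
  let O : Set V.toScheme := (⋃₀ (F \ {Z}))ᶜ
  have hO : IsOpen O := by
    rw [isOpen_compl_iff, Set.sUnion_eq_biUnion]
    exact (hF.subset Set.sdiff_subset).isClosed_biUnion fun W hW => hFc W hW.1
  refine ⟨V.ι ζ, V.ι ''ᵁ ⟨O, hO⟩, ⟨ζ, ?_, rfl⟩, ?_⟩
  · rintro ⟨W, ⟨hW, hne⟩, hζW⟩
    have hsub : Z ⊆ W := hζ.def ▸ (hFc W hW).closure_subset_iff.2 (Set.singleton_subset_iff.2 hζW)
    exact hne (Set.Subset.antisymm (hZm hW hsub) hsub)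
  · rintro _ ⟨t, ht, rfl⟩
    refine (hζ.specializes ?_).map V.ι.continuous
    obtain ⟨W, hW, htW⟩ := Set.mem_sUnion.1 (hTF ▸ Set.mem_univ t)
    by_contra hne
    exact ht ⟨W, ⟨hW, fun e => hne (e ▸ htW)⟩, htW⟩

variable {G : Over S} [GrpObj G] [LocallyOfFiniteType G.hom]

/-- The neutral components are open over a nonempty open subset of the base. -/
theorem exists_generic_open [Nonempty S] : ∃ U : S.Opens, (U : Set S).Nonempty ∧
    IsOpen (SGA3x.neutralSet G ∩ G.hom ⁻¹' (U : Set S)) := by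
  have : IsLocallyNoetherian G.left := LocallyOfFiniteType.isLocallyNoetherian G.hom
  have : LocallyOfFinitePresentation G.hom :=
    LocallyOfFinitePresentation.iff_locallyOfFiniteType.2 inferInstance
  obtain ⟨s, U₀, hsU₀, hU₀⟩ := exists_open_irreducible (S := S)
  obtain ⟨U₁, hsU₁, hU₁⟩ := exists_gen_stable (G := G) (T := closure {s}) isClosed_closure (s := s)
    fun t ht hts => (hts.antisymm (specializes_iff_mem_closure.2 ht)).eq
  let U := U₀ ⊓ U₁
  refine ⟨U, ⟨s, hsU₀, hsU₁⟩, ?_⟩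
  rw [← isClosed_compl_iff, isClosed_iff_nhds]
  intro z hz hzN
  have hcl : z ∈ closure (SGA3x.neutralSet G)ᶜ := by
    rw [mem_closure_iff_nhds]
    intro O hO
    obtain ⟨y, ⟨hyO, hyU⟩, hy⟩ :=
      hz _ (Filter.inter_mem hO ((U.isOpen.preimage G.hom.continuous).mem_nhds hzN.2))
    exact ⟨y, hyO, fun h => hy ⟨h, hyU⟩⟩
  obtain ⟨w, hw, hwz⟩ := ProConsLib.exists_specializes_of_mem_closure
    (isProConstructible_of_isLocallyConstructible
      (AnPts.isLocallyConstructible_compl Deform.Neutral.isLocallyConstructible_neutralSet)) hcl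
  exact hw (hU₁ w z hwz hzN.2.2 ((hU₀ _ ((hwz.map G.hom.continuous).mem_open U.isOpen hzN.2).1).mem_closure) hzN.1)

/-- The open subgroup of neutral components over a nonempty open of the base. -/
theorem exists_neutral_group [Nonempty S] :
    ∃ U : S.Opens, (U : Set ↥S).Nonempty ∧
      ∃ (H : Over (U : Scheme.{u})) (_ : GrpObj H) (i : H ⟶ Red.bc U.ι G), IsMonHom i ∧ IsOpenImmersion i.left ∧
        QuasiCompact H.hom ∧ LocallyOfFiniteType H.hom ∧
        (∀ u : ↥(U : Scheme.{u}), _root_.IsConnected (H.hom.base ⁻¹' {u})) ∧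
        Set.range (i.left ≫ pullback.fst G.hom U.ι).base = SGA3x.neutralSet G ∩ G.hom.base ⁻¹' (U : Set ↥S) := by
  obtain ⟨U, hne, ho⟩ := exists_generic_open (G := G)
  let H0 := Red.bc U.ι G
  let q := pullback.fst G.hom U.ι
  have hrange : Set.range q = G.hom ⁻¹' (U : Set S) := by
    rw [Scheme.Pullback.range_fst, Scheme.Opens.range_ι]
  have hbc : SGA3x.neutralSet H0 = q ⁻¹' SGA3x.neutralSet G := GrpSchLib.Neutral.neutralSet_bc G U.ι
  have hN0 : IsOpen (SGA3x.neutralSet H0) := by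
    have e : q ⁻¹' SGA3x.neutralSet G = q ⁻¹' (SGA3x.neutralSet G ∩ G.hom ⁻¹' (U : Set S)) := by
      rw [Set.preimage_inter, ← hrange, Set.preimage_range, Set.inter_univ]
    rw [hbc, e]
    exact ho.preimage q.continuous
  have : LocallyOfFiniteType H0.hom := inferInstanceAs (LocallyOfFiniteType (pullback.snd G.hom U.ι))
  let N : H0.left.Opens := ⟨SGA3x.neutralSet H0, hN0⟩
  obtain ⟨grp, hmon⟩ := Deform.Neutral.exists_openSubgroup (G := H0) N rfl
  refine ⟨U, hne, Over.mk (N.ι ≫ H0.hom), grp, Over.homMk N.ι rfl, hmon, inferInstanceAs (IsOpenImmersion N.ι),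
    Deform.Neutral.quasiCompact_neutral (G := H0) N rfl, inferInstanceAs (LocallyOfFiniteType (N.ι ≫ H0.hom)),
    fun u => ?_, ?_⟩
  · have himg : N.ι '' ((N.ι ≫ H0.hom) ⁻¹' {u}) =
        connectedComponentIn (H0.hom ⁻¹' {u}) (GrpSchLib.Neutral.unit H0 u) := by
      ext y
      constructor
      · rintro ⟨z, hz, rfl⟩
        have h := (GrpSchLib.Neutral.mem_neutralSet_iff H0).1 (show N.ι z ∈ SGA3x.neutralSet H0 from z.2)
        rwa [show H0.hom (N.ι z) = u from hz] at h
      · intro hy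
        have hyu : H0.hom y = u :=
          (connectedComponentIn_subset (H0.hom ⁻¹' {u}) (GrpSchLib.Neutral.unit H0 u) hy :)
        have hyN : y ∈ SGA3x.neutralSet H0 := (GrpSchLib.Neutral.mem_neutralSet_iff H0).2 (by rw [hyu]; exact hy)
        exact ⟨⟨y, hyN⟩, hyu, rfl⟩
    refine ⟨?_, N.ι.isOpenEmbedding.isInducing.isPreconnected_image.1 (himg ▸ isPreconnected_connectedComponentIn)⟩
    exact ⟨⟨GrpSchLib.Neutral.unit H0 u, GrpSchLib.Neutral.unit_mem_neutralSet H0 u⟩,
      GrpSchLib.Neutral.hom_unit H0 u⟩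
  · show Set.range (N.ι ≫ q) = _
    ext y
    constructor
    · rintro ⟨z, rfl⟩
      refine ⟨?_, hrange.le ⟨N.ι z, rfl⟩⟩
      have h : N.ι z ∈ q ⁻¹' SGA3x.neutralSet G := hbc ▸ (show N.ι z ∈ SGA3x.neutralSet H0 from z.2)
      exact h
    · rintro ⟨hyN, hyU⟩
      obtain ⟨y', rfl⟩ := hrange.ge hyU
      exact ⟨⟨y', show y' ∈ SGA3x.neutralSet H0 from hbc ▸ hyN⟩, rfl⟩

end Groth.Agent.TorsBound
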