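import Groth.Agent.TorsBound.Gen
import Groth.Agent.Deform.Neutral.UnivOpen
import Groth.Agent.GrpSchLib.FibreDimGrp
import Groth.Agent.FibDim.RelDim

/-!
The neutral components map openly to the base where the fibre dimension is locally constant.
-/

set_option autoImplicit false

universe u

open CategoryTheory CategoryTheory.Limits MonoidalCategory CartesianMonoidalCategory MonObj GrpObj AlgebraicGeometry
open Topology TopologicalSpace

namespace Groth.Agent.TorsBound

variable {S : Scheme.{u}} {G : Over S} [GrpObj G]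

/-- A point of a neutral component generizes to every neutral component of the same dimension. -/
theorem exists_generization_neutral [LocallyOfFiniteType G.hom] {x : G.left} (hx : x ∈ SGA3x.neutralSet G) {t : S}
    (ht : t ⤳ G.hom x)
    (hd : topologicalKrullDim ↥(G.hom ⁻¹' {t}) = topologicalKrullDim ↥(G.hom ⁻¹' {G.hom x})) :
    ∃ y ∈ SGA3x.neutralSet G, y ⤳ x ∧ G.hom y = t := by
  obtain ⟨a, hat, haN, ha⟩ := Deform.Neutral.exists_generic_neutral (G := G) t
  obtain ⟨b, hbs, hbN, hb⟩ := Deform.Neutral.exists_generic_neutral (G := G) (G.hom x)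
  have hmax : ∀ {c : G.left} {s : S}, G.hom c = s → c ∈ SGA3x.neutralSet G →
      (∀ z ∈ SGA3x.neutralSet G, G.hom z = s → c ⤳ z) → FibDim.FibMax G.hom c := by
    intro c s hcs hcN hc z' hz' hfz
    exact (hz'.antisymm (hc z' (mem_neutralSet_of_specializes_fibre hz' hfz hcN) (hfz.trans hcs))).eq
  have hrd : FibDim.rd G.hom a = FibDim.rd G.hom b := by
    have h1 := FibDim.fibreDimAt_eq_rd G.hom (hmax hat haN ha)
    have h2 := FibDim.fibreDimAt_eq_rd G.hom (hmax hbs hbN hb)
    rw [GrpSchLib.FibreDimGrp.fibreDimAt_eq, hat] at h1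
    rw [GrpSchLib.FibreDimGrp.fibreDimAt_eq, hbs] at h2
    rw [hd, h2] at h1
    exact_mod_cast h1.symm
  have hae : a ⤳ GrpSchLib.Neutral.unit G (G.hom x) :=
    (ha _ (GrpSchLib.Neutral.unit_mem_neutralSet G t) (GrpSchLib.Neutral.hom_unit G t)).trans
      (ht.map (GrpSchLib.Neutral.unit G).continuous)
  obtain ⟨z, haz, hze, hfz, hle⟩ := FibDim.exists_rd_ge G.hom hae
  have hzs : G.hom z = G.hom x := hfz.trans (GrpSchLib.Neutral.hom_unit G _)
  have hzN : z ∈ SGA3x.neutralSet G :=
    mem_neutralSet_of_specializes_fibre hze hfz (GrpSchLib.Neutral.unit_mem_neutralSet G _)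
  have hbz : b = z := by
    by_contra hne
    have h := FibDim.rd_lt G.hom (hb z hzN hzs) hne (hbs.trans hzs.symm)
    omega
  exact ⟨a, haN, haz.trans (hbz ▸ hb x hx rfl), hat⟩

/-- Universal openness along the neutral components makes the neutral components map openly, also after
base change. -/
theorem image_inter_neutralSet_mem_nhds [IsLocallyNoetherian S] [LocallyOfFiniteType G.hom]
    (hopen : ∀ (S' : Scheme.{u}) (g : S' ⟶ S) (x' : ↥(Red.bc g G).left), x' ∈ SGA3x.neutralSet (Red.bc g G) →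
      ∀ U : Set ↥(Red.bc g G).left, IsOpen U → x' ∈ U →
        (Red.bc g G).hom.base '' U ∈ nhds ((Red.bc g G).hom.base x'))
    {S' : Scheme.{u}} (g : S' ⟶ S) {x' : ↥(Red.bc g G).left} (hx' : x' ∈ SGA3x.neutralSet (Red.bc g G))
    {U : Set ↥(Red.bc g G).left} (hU : IsOpen U) (hxU : x' ∈ U) :
    (Red.bc g G).hom.base '' (U ∩ SGA3x.neutralSet (Red.bc g G)) ∈ nhds ((Red.bc g G).hom.base x') := by
  have : IsLocallyNoetherian G.left := LocallyOfFiniteType.isLocallyNoetherian G.hom
  have : LocallyOfFinitePresentation G.hom :=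
    LocallyOfFinitePresentation.iff_locallyOfFiniteType.2 inferInstance
  let G' := Red.bc g G
  let q : G'.left ⟶ G.left := pullback.fst G.hom g
  have : LocallyOfFinitePresentation G'.hom := inferInstanceAs (LocallyOfFinitePresentation (pullback.snd G.hom g))
  have : LocallyOfFiniteType G'.hom := inferInstanceAs (LocallyOfFiniteType (pullback.snd G.hom g))
  have hN' : IsLocallyConstructible (SGA3x.neutralSet G') := by
    rw [show SGA3x.neutralSet G' = q ⁻¹' SGA3x.neutralSet G from GrpSchLib.Neutral.neutralSet_bc G g]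
    exact AlgSpDec.isLocallyConstructible_preimage_hom q Deform.Neutral.isLocallyConstructible_neutralSet
  -- the dimension of the fibres is constant near the point
  let s' := G'.hom x'
  have hpb : IsPullback q G'.hom G.hom g := IsPullback.of_hasPullback _ _
  have hbc : ∀ t : S', topologicalKrullDim ↥(G'.hom ⁻¹' {t}) = topologicalKrullDim ↥(G.hom ⁻¹' {g t}) := fun t => by
    rw [GrpSchLib.FibreDimGrp.dim_eq, GrpSchLib.FibreDimGrp.dim_eq,
      FibDim.fibreDimAt_baseChange hpb, GrpSchLib.Neutral.bc_unit]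
  obtain ⟨D, hD, hDc⟩ := Deform.Neutral.dim_const_of_isUnivOpenAt (G := G) (g s') fun x hx _ _ Y' h z hz O hO => by
    obtain ⟨O', hO'O, hO', hzO'⟩ := mem_nhds_iff.1 hO
    refine Filter.mem_of_superset (hopen Y' h z ?_ O' hO' hzO') (Set.image_mono hO'O)
    rw [GrpSchLib.Neutral.neutralSet_bc G h]
    show pullback.fst G.hom h z ∈ SGA3x.neutralSet G
    rw [hz]; exact hx
  obtain ⟨V₀, hV₀, hsV, hVD⟩ :
      ∃ V : S'.Opens, IsAffineOpen V ∧ s' ∈ V ∧ ∀ t ∈ V, g t ∈ D := by
    obtain ⟨O, hOD, hO, hsO⟩ := mem_nhds_iff.1 hD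
    obtain ⟨V, hV, hsV, hVO⟩ := exists_isAffineOpen_mem_and_subset (show s' ∈ g ⁻¹ᵁ ⟨O, hO⟩ from hsO)
    exact ⟨V, hV, hsV, fun t ht => hOD (hVO ht)⟩
  obtain ⟨W, hW, hxW, hWU⟩ := exists_isAffineOpen_mem_and_subset
    (show x' ∈ (⟨U, hU⟩ : G'.left.Opens) ⊓ G'.hom ⁻¹ᵁ V₀ from ⟨hxU, hsV⟩)
  have : IsAffine V₀.toScheme := hV₀
  have : IsAffine W.toScheme := hW
  let f : W.toScheme ⟶ V₀.toScheme := G'.hom.resLE V₀ W fun z hz => (hWU hz).2
  have hf : ∀ z, V₀.ι (f z) = G'.hom (W.ι z) := fun z => by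
    rw [← Scheme.Hom.comp_apply, ← Scheme.Hom.comp_apply, Scheme.Hom.resLE_comp_ι]
  have : IsAffineHom f := isAffineHom_of_isAffine _
  have : LocallyOfFinitePresentation f := by
    have : LocallyOfFinitePresentation (f ≫ V₀.ι) := by rw [Scheme.Hom.resLE_comp_ι]; infer_instance
    exact S12442.locallyOfFinitePresentation_of_comp f V₀.ι
  let A : Set V₀.toScheme := f '' (W.ι ⁻¹' SGA3x.neutralSet G')
  have hA : IsLocallyConstructible A :=
    f.isLocallyConstructible_image (AlgSpDec.isLocallyConstructible_preimage_hom W.ι hN')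
  let σ : V₀.toScheme := ⟨s', hsV⟩
  have hgen : ∀ t : V₀.toScheme, t ⤳ σ → t ∈ A := fun t ht => by
    have ht' : V₀.ι t ⤳ s' := ht.map V₀.ι.continuous
    obtain ⟨y, hyN, hyx, hyt⟩ := exists_generization_neutral (G := G') hx' ht' (by
      rw [hbc, hbc, hDc _ (hVD (V₀.ι t) t.2), hDc _ (hVD (G'.hom x') hsV)])
    let y' : W.toScheme := ⟨y, hyx.mem_open W.isOpen hxW⟩
    exact ⟨y', hyN, V₀.ι.isOpenEmbedding.injective ((hf y').trans hyt)⟩
  have hAn : A ∈ nhds σ := by
    rw [← mem_interior_iff_mem_nhds]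
    by_contra h
    rw [← Set.mem_compl_iff, ← closure_compl] at h
    have hAc : IsConstructible Aᶜ := hA.isConstructible.compl
    obtain ⟨z, hz, hzs⟩ :=
      ProConsLib.exists_specializes_of_mem_closure (isProConstructible_of_isConstructible hAc) h
    exact hz (hgen z hzs)
  refine Filter.mem_of_superset (V₀.ι.isOpenEmbedding.isOpenMap.image_mem_nhds hAn) ?_
  rintro _ ⟨_, ⟨z, hz, rfl⟩, rfl⟩
  exact ⟨W.ι z, ⟨(hWU z.2).1, hz⟩, (hf z).symm⟩

end Groth.Agent.TorsBound
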