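import Groth.Agent.TorsBound.Closed
import Groth.Agent.TorsBound.Generic
import Groth.Agent.AnPts.Constr

/-!
Torsion orders in the component groups are locally bounded, so the torsion component sets are locally
constructible.
-/

set_option autoImplicit false

universe u

open CategoryTheory CategoryTheory.Limits MonoidalCategory CartesianMonoidalCategory MonObj GrpObj AlgebraicGeometry
open Topology TopologicalSpace

attribute [local instance] CategoryTheory.Hom.monoid CategoryTheory.Hom.group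

namespace Groth.Agent.TorsBound

variable {S : Scheme.{u}} {G : Over S} [GrpObj G]

/-- Within one fibre, the neutral component is stable under specialization. -/
theorem mem_neutralSet_of_specializes_fibre' {w z : G.left} (h : w ⤳ z) (he : G.hom w = G.hom z)
    (hw : w ∈ SGA3x.neutralSet G) : z ∈ SGA3x.neutralSet G := by
  rw [GrpSchLib.Neutral.mem_neutralSet_iff] at hw ⊢
  rw [← he, connectedComponentIn_eq hw]
  have hc : _root_.IsPreconnected ({w, z} : Set G.left) :=
    IsPreconnected.subset_closure (isPreconnected_singleton (x := w)) (by simp)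
      (Set.insert_subset (subset_closure rfl) (Set.singleton_subset_iff.2 h.mem_closure))
  refine hc.subset_connectedComponentIn (Set.mem_insert _ _) ?_ (Set.mem_insert_of_mem _ rfl)
  rintro y (rfl | rfl)
  exacts [rfl, he.symm]

variable [IsLocallyNoetherian S] [LocallyOfFiniteType G.hom]

omit [GrpObj G] in
/-- A locally constructible set which is stable under generization inside one fibre is stable under
generization over a neighbourhood, on a compact set. -/
theorem exists_stable {P : Set G.left} (hP : IsLocallyConstructible P) {C : Set G.left} (hC : IsCompact C)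
    {T : Set S} (hT : IsClosed T) {s : S} (hmax : ∀ t ∈ T, t ⤳ s → t = s)
    (hfib : ∀ w z : G.left, w ⤳ z → G.hom w = s → G.hom z = s → z ∈ P → w ∈ P) :
    ∃ U : S.Opens, s ∈ U ∧ ∀ w z : G.left, w ⤳ z → z ∈ C → G.hom z ∈ U → G.hom w ∈ T → z ∈ P → w ∈ P := by
  classical
  have : IsLocallyNoetherian G.left := LocallyOfFiniteType.isLocallyNoetherian G.hom
  have haff : ∀ x : G.left, ∃ W : G.left.Opens, IsAffineOpen W ∧ x ∈ W := fun x => by
    obtain ⟨W, hW, hxW, -⟩ := exists_isAffineOpen_mem_and_subset (show x ∈ (⊤ : G.left.Opens) from trivial)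
    exact ⟨W, hW, hxW⟩
  choose W hW hxW using haff
  obtain ⟨F, hF⟩ := hC.elim_finite_subcover (fun x => (W x : Set G.left)) (fun x => (W x).isOpen)
    (fun x _ => Set.mem_iUnion.2 ⟨x, hxW x⟩)
  let D : ∀ x, Set (W x).toScheme := fun x => (W x).ι ⁻¹' (G.hom ⁻¹' T \ P)
  let E : ∀ x, Set (W x).toScheme := fun x => closure (D x) ∩ (W x).ι ⁻¹' P
  have hD : ∀ x, IsConstructible (D x) := fun x => by
    have : IsAffine (W x).toScheme := hW x
    have : IsNoetherian (W x).toScheme := {}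
    exact (isConstructible_of_isClosed (hT.preimage ((W x).ι ≫ G.hom).continuous)).sdiff
      (AlgSpDec.isLocallyConstructible_preimage_hom (W x).ι hP).isConstructible
  have hE : ∀ x, IsConstructible (E x) := fun x => by
    have : IsAffine (W x).toScheme := hW x
    have : IsNoetherian (W x).toScheme := {}
    exact (isConstructible_of_isClosed isClosed_closure).inter
      (AlgSpDec.isLocallyConstructible_preimage_hom (W x).ι hP).isConstructible
  have hbad : ∀ x, s ∉ closure (((W x).ι ≫ G.hom) '' E x) := by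
    intro x hs
    have : IsAffine (W x).toScheme := hW x
    obtain ⟨z, ⟨hzD, hzP⟩, hzs⟩ := ProConsLib.exists_specializes_of_mem_closure_image_scheme
      (isProConstructible_of_isConstructible (hE x)) ((W x).ι ≫ G.hom) hs
    obtain ⟨w, ⟨hwT, hwP⟩, hwz⟩ := ProConsLib.exists_specializes_of_mem_closure
      (isProConstructible_of_isConstructible (hD x)) hzD
    have h1 : (W x).ι w ⤳ (W x).ι z := hwz.map (W x).ι.continuous
    exact hwP (hfib _ _ h1 (hmax _ hwT ((h1.map G.hom.continuous).trans hzs))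
      (hmax _ ((h1.map G.hom.continuous).mem_closed hT hwT) hzs) hzP)
  let U : S.Opens := ⟨(⋃ x ∈ F, closure (((W x).ι ≫ G.hom) '' E x))ᶜ,
    (isClosed_biUnion_finset fun x _ => isClosed_closure).isOpen_compl⟩
  refine ⟨U, fun h => ?_, fun w z hwz hzC hzU hwT hzP => ?_⟩
  · obtain ⟨x, -, hx⟩ := Set.mem_iUnion₂.1 h
    exact hbad x hx
  · by_contra hwP
    obtain ⟨x, hxF, hzx⟩ := Set.mem_iUnion₂.1 (hF hzC)
    let z' : (W x).toScheme := ⟨z, hzx⟩
    let w' : (W x).toScheme := ⟨w, hwz.mem_open (W x).isOpen hzx⟩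
    have hwz' : w' ⤳ z' := (W x).ι.isOpenEmbedding.isInducing.specializes_iff.1 hwz
    have hz' : z' ∈ E x :=
      ⟨hwz'.mem_closed isClosed_closure (subset_closure (show w' ∈ D x from ⟨hwT, hwP⟩)), hzP⟩
    exact hzU (Set.mem_iUnion₂.2 ⟨x, hxF, subset_closure ⟨z', hz', rfl⟩⟩)

theorem isLocallyConstructible_neutralSet' : IsLocallyConstructible (SGA3x.neutralSet G) := by
  have : IsLocallyNoetherian G.left := LocallyOfFiniteType.isLocallyNoetherian G.hom
  have : LocallyOfFinitePresentation G.hom :=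
    LocallyOfFinitePresentation.iff_locallyOfFiniteType.2 inferInstance
  exact Deform.Neutral.isLocallyConstructible_neutralSet

/-- Torsion orders are bounded on an affine open. -/
theorem exists_bound' {W : G.left.Opens} (hW : IsAffineOpen W) {V : S.Opens} (hV : IsAffineOpen V)
    (hWV : W ≤ G.hom ⁻¹ᵁ V) :
    ∃ B : ℕ, ∀ x ∈ W, ∀ m : ℕ, 0 < m → ((𝟙 G : G ⟶ G) ^ m).left x ∈ SGA3x.neutralSet G →
      ∃ d, 0 < d ∧ d ≤ B ∧ d ∣ m ∧ ((𝟙 G : G ⟶ G) ^ d).left x ∈ SGA3x.neutralSet G := by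
  classical
  have : IsLocallyNoetherian G.left := LocallyOfFiniteType.isLocallyNoetherian G.hom
  have : IsAffine V.toScheme := hV
  have : IsNoetherian V.toScheme := {}
  have : IsAffine W.toScheme := hW
  have : IsNoetherian W.toScheme := {}
  suffices h : ∀ T : Closeds V.toScheme, ∃ B : ℕ, ∀ x, ∀ hx : x ∈ W, (⟨G.hom x, hWV hx⟩ : V.toScheme) ∈ T →
      ∀ m : ℕ, 0 < m → ((𝟙 G : G ⟶ G) ^ m).left x ∈ SGA3x.neutralSet G →
        ∃ d, 0 < d ∧ d ≤ B ∧ d ∣ m ∧ ((𝟙 G : G ⟶ G) ^ d).left x ∈ SGA3x.neutralSet G by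
    obtain ⟨B, hB⟩ := h ⊤
    exact ⟨B, fun x hx => hB x hx trivial⟩
  intro T
  induction T using WellFoundedLT.induction with
  | _ T ih =>
    rcases (T : Set V.toScheme).eq_empty_or_nonempty with hT | hT
    · exact ⟨0, fun x hx hxT => absurd (show _ ∈ (T : Set V.toScheme) from hxT) (hT ▸ Set.notMem_empty _)⟩
    -- a maximal point of `T`
    obtain ⟨s, hsT, hmax⟩ : ∃ s ∈ T, ∀ t ∈ T, t ⤳ s → t = s := by
      obtain ⟨F, hF, hFc, hFi, hTF⟩ := NoetherianSpace.exists_finite_set_isClosed_irreducible T.isClosed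
      obtain ⟨Z, hZ, hZm⟩ := hF.exists_maximal (Set.nonempty_iff_ne_empty.2 fun he => by
        rw [he, Set.sUnion_empty] at hTF
        exact hT.ne_empty hTF)
      obtain ⟨s, hs⟩ := QuasiSober.sober (hFi Z hZ) (hFc Z hZ)
      refine ⟨s, show s ∈ (T : Set V.toScheme) from hTF ▸ Set.mem_sUnion_of_mem hs.mem hZ, fun t ht hts => ?_⟩
      obtain ⟨Z', hZ', htZ'⟩ := Set.mem_sUnion.1 (hTF ▸ (show t ∈ (T : Set V.toScheme) from ht))
      have hsZ' : s ∈ Z' := hts.mem_closed (hFc Z' hZ') htZ'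
      have hsub : Z ⊆ Z' := hs.def ▸ (hFc Z' hZ').closure_subset_iff.2 (Set.singleton_subset_iff.2 hsZ')
      exact (hts.antisymm (hs.specializes (hZm hZ' hsub htZ'))).eq
    -- stability near that point
    let T' : Set S := closure (V.ι '' T)
    have hTT' : ∀ t : V.toScheme, V.ι t ∈ T' ↔ t ∈ T := fun t => by
      refine ⟨fun h => ?_, fun h => subset_closure ⟨t, h, rfl⟩⟩
      have h' : t ∈ closure (T : Set V.toScheme) := by
        rw [V.ι.isOpenEmbedding.isInducing.closure_eq_preimage_closure_image]; exact h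
      exact T.isClosed.closure_subset h'
    have hmax' : ∀ t ∈ T', t ⤳ V.ι s → t = V.ι s := fun t ht hts => by
      let t' : V.toScheme := ⟨t, hts.mem_open V.isOpen s.2⟩
      exact congrArg V.ι (hmax t' ((hTT' t').1 ht) (V.ι.isOpenEmbedding.isInducing.specializes_iff.1 hts))
    obtain ⟨U, hsU, hU⟩ := exists_gen_stable (G := G) (T := T') isClosed_closure hmax'
    -- maximal points of the part of `W` over `T`
    let φ : W.toScheme → S := fun w => G.hom (W.ι w)
    have hWT : IsClosed (φ ⁻¹' T') := isClosed_closure.preimage (G.hom.continuous.comp W.ι.continuous)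
    obtain ⟨F, hF, hFc, hFi, hTF⟩ := NoetherianSpace.exists_finite_set_isClosed_irreducible hWT
    have hgen : ∀ Z : F, ∃ ζ, IsGenericPoint ζ (Z : Set W.toScheme) := fun Z =>
      QuasiSober.sober (hFi Z Z.2) (hFc Z Z.2)
    choose ζ hζ using hgen
    let δ : F → ℕ := fun Z => if h : ∃ d, 0 < d ∧ ((𝟙 G : G ⟶ G) ^ d).left (W.ι (ζ Z)) ∈ SGA3x.neutralSet G
      then Nat.find h else 0
    have : Fintype F := hF.fintype
    let C : Set G.left := ⋃ Z : F, ((𝟙 G : G ⟶ G) ^ δ Z).left '' (W : Set G.left)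
    have hC : IsCompact C := isCompact_iUnion fun Z => hW.isCompact.image ((𝟙 G : G ⟶ G) ^ δ Z).left.continuous
    obtain ⟨U', hsU', hU'⟩ := exists_stable (G := G)
      (AnPts.isLocallyConstructible_compl isLocallyConstructible_neutralSet') hC (T := T') isClosed_closure hmax'
      fun w z hwz hw hz hzN hwN => hzN (mem_neutralSet_of_specializes_fibre' hwz (hw.trans hz.symm) hwN)
    let Tc : Closeds V.toScheme := ⟨(T : Set V.toScheme) \ V.ι ⁻¹' (U ⊓ U' : S.Opens),
      T.isClosed.sdiff ((U ⊓ U').isOpen.preimage V.ι.continuous)⟩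
    have hlt : Tc < T := lt_of_le_of_ne (fun t ht => ht.1) fun h => by
      have : s ∈ Tc := h ▸ hsT
      exact this.2 ⟨hsU, hsU'⟩
    obtain ⟨B', hB'⟩ := ih Tc hlt
    refine ⟨max B' (Finset.univ.sup δ), fun x hxW hxT m hm hxm => ?_⟩
    by_cases hxU : G.hom x ∈ U ⊓ U'
    · let x' : W.toScheme := ⟨x, hxW⟩
      have hx' : x' ∈ φ ⁻¹' T' := (hTT' ⟨G.hom x, hWV hxW⟩).2 hxT
      obtain ⟨Z, hZ, hxZ⟩ := Set.mem_sUnion.1 (hTF ▸ hx')
      let z := W.ι (ζ ⟨Z, hZ⟩)
      have hzx : z ⤳ x := ((hζ ⟨Z, hZ⟩).specializes hxZ).map W.ι.continuous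
      have hzT : G.hom z ∈ T' := show ζ ⟨Z, hZ⟩ ∈ φ ⁻¹' T' from hTF ▸ Set.mem_sUnion_of_mem (hζ ⟨Z, hZ⟩).mem hZ
      have hup : ∀ j, ((𝟙 G : G ⟶ G) ^ j).left x ∈ SGA3x.neutralSet G →
          ((𝟙 G : G ⟶ G) ^ j).left z ∈ SGA3x.neutralSet G := fun j hj =>
        hU _ _ (hzx.map ((𝟙 G : G ⟶ G) ^ j).left.continuous) ((hom_pow x j).symm ▸ hxU.1)
          ((hom_pow z j).symm ▸ hzT) hj
      have hz : ∃ d, 0 < d ∧ ((𝟙 G : G ⟶ G) ^ d).left z ∈ SGA3x.neutralSet G := ⟨m, hm, hup m hxm⟩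
      have hδ : δ ⟨Z, hZ⟩ = Nat.find hz := dif_pos hz
      obtain ⟨hd0, hd⟩ := Nat.find_spec hz
      refine ⟨Nat.find hz, hd0, ?_, ?_, ?_⟩
      · rw [← hδ]
        exact (Finset.le_sup (Finset.mem_univ _)).trans (le_max_right _ _)
      · refine Nat.dvd_of_mod_eq_zero ?_
        by_contra hne
        exact Nat.find_min hz (Nat.mod_lt _ hd0) ⟨Nat.pos_of_ne_zero hne, mod_mem z _ m hd (hup m hxm)⟩
      · by_contra hxd
        refine hU' _ _ (hzx.map ((𝟙 G : G ⟶ G) ^ Nat.find hz).left.continuous) ?_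
          ((hom_pow x _).symm ▸ hxU.2) ((hom_pow z _).symm ▸ hzT) hxd hd
        exact Set.mem_iUnion.2 ⟨⟨Z, hZ⟩, x, hxW, by rw [hδ]⟩
    · obtain ⟨d, hd0, hdB, hdm, hd⟩ := hB' x hxW ⟨hxT, hxU⟩ m hm hxm
      exact ⟨d, hd0, hdB.trans (le_max_left _ _), hdm, hd⟩

/-- The torsion points with allowed orders form a locally constructible set. -/
theorem isLocallyConstructible_torsion (A : ℕ → Prop) (hdvd : ∀ d m, d ∣ m → A m → A d) :
    IsLocallyConstructible {x : G.left | ∃ m, 0 < m ∧ A m ∧ ((𝟙 G : G ⟶ G) ^ m).left x ∈ SGA3x.neutralSet G} := by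
  classical
  intro x
  obtain ⟨V, hV, hxV, -⟩ := exists_isAffineOpen_mem_and_subset (show G.hom x ∈ (⊤ : S.Opens) from trivial)
  obtain ⟨W, hW, hxW, hWV⟩ := exists_isAffineOpen_mem_and_subset (show x ∈ G.hom ⁻¹ᵁ V from hxV)
  obtain ⟨B, hB⟩ := exists_bound' hW hV hWV
  refine ⟨W, W.isOpen.mem_nhds hxW, W.isOpen, ?_⟩
  have : IsAffine W.toScheme := hW
  let X : ℕ → Set W.toScheme := fun d => W.ι ⁻¹' (((𝟙 G : G ⟶ G) ^ (d + 1)).left ⁻¹' SGA3x.neutralSet G)
  have hX : IsConstructible (⋃ d ∈ {d ∈ Finset.range B | A (d + 1)}, X d) :=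
    IsConstructible.biUnion (Finset.finite_toSet _) fun d _ =>
      (AlgSpDec.isLocallyConstructible_preimage_hom W.ι
        (AlgSpDec.isLocallyConstructible_preimage_hom _ isLocallyConstructible_neutralSet')).isConstructible
  show IsConstructible (W.ι ⁻¹' {x : G.left | ∃ m, 0 < m ∧ A m ∧ ((𝟙 G : G ⟶ G) ^ m).left x ∈ SGA3x.neutralSet G})
  refine (congrArg IsConstructible (Set.ext fun y => ?_)).mpr hX
  constructor
  · rintro ⟨m, hm, hAm, hym⟩
    obtain ⟨d, hd0, hdB, hdm, hd⟩ := hB y.1 y.2 m hm hym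
    obtain ⟨d, rfl⟩ := Nat.exists_eq_succ_of_ne_zero hd0.ne'
    exact Set.mem_iUnion₂.2 ⟨d, Finset.mem_filter.2 ⟨Finset.mem_range.2 hdB, hdvd _ _ hdm hAm⟩, hd⟩
  · intro hy
    obtain ⟨d, hd, hyd⟩ := Set.mem_iUnion₂.1 hy
    exact ⟨d + 1, d.succ_pos, (Finset.mem_filter.1 hd).2, hyd⟩

/-- A torsion component set stable under generization is open. -/
theorem isOpen_torsion (A : ℕ → Prop) (hdvd : ∀ d m, d ∣ m → A m → A d)
    (h : ∀ x y : G.left, y ⤳ x → (∃ m, 0 < m ∧ A m ∧ ((𝟙 G : G ⟶ G) ^ m).left x ∈ SGA3x.neutralSet G) →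
      ∃ m, 0 < m ∧ A m ∧ ((𝟙 G : G ⟶ G) ^ m).left y ∈ SGA3x.neutralSet G) :
    IsOpen {x : G.left | ∃ m, 0 < m ∧ A m ∧ ((𝟙 G : G ⟶ G) ^ m).left x ∈ SGA3x.neutralSet G} := by
  rw [← isClosed_compl_iff, isClosed_iff_nhds]
  intro x hx hxA
  obtain ⟨y, hy, hyx⟩ := ProConsLib.exists_specializes_of_mem_closure
    (isProConstructible_of_isLocallyConstructible
      (AnPts.isLocallyConstructible_compl (isLocallyConstructible_torsion A hdvd))) (mem_closure_iff_nhds.2 hx)
  exact hy (h x y hyx hxA)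

end Groth.Agent.TorsBound
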