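import Groth.Agent.Deform.Neutral.Constructible
import Groth.Agent.AlgSpDec.ConstrDescent
import Groth.Agent.ProConsLib.Image

/-!
The neutral components are stable under generization over a neighbourhood of a maximal point of a closed
subset of the base.
-/

set_option autoImplicit false

universe u

open CategoryTheory CategoryTheory.Limits MonoidalCategory CartesianMonoidalCategory MonObj GrpObj AlgebraicGeometry
open Topology TopologicalSpace

namespace Groth.Agent.TorsBound

variable {S : Scheme.{u}} {G : Over S} [GrpObj G]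

/-- Within one fibre, the neutral component is stable under generization. -/
theorem mem_neutralSet_of_specializes_fibre {w z : G.left} (h : w ⤳ z) (he : G.hom w = G.hom z)
    (hz : z ∈ SGA3x.neutralSet G) : w ∈ SGA3x.neutralSet G := by
  rw [GrpSchLib.Neutral.mem_neutralSet_iff] at hz ⊢
  rw [he, connectedComponentIn_eq hz]
  have hc : _root_.IsPreconnected ({w, z} : Set G.left) :=
    IsPreconnected.subset_closure (isPreconnected_singleton (x := w)) (by simp)
      (Set.insert_subset (subset_closure rfl) (Set.singleton_subset_iff.2 h.mem_closure))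
  refine hc.subset_connectedComponentIn (Set.mem_insert_of_mem _ rfl) ?_ (Set.mem_insert _ _)
  rintro y (rfl | rfl)
  exacts [he, rfl]

theorem isProConstructible_of_isConstructible {X : Type u} [TopologicalSpace X] {E : Set X}
    (hE : IsConstructible E) : ProCons.IsProConstructible E := fun _ =>
  ⟨Set.univ, isOpen_univ, trivial, {Subtype.val ⁻¹' E}, fun T hT => by
    rw [Set.mem_singleton_iff.1 hT]
    exact hE.isLocallyConstructible.preimage_of_isOpenEmbedding isOpen_univ.isOpenEmbedding_subtypeVal,
    (Set.sInter_singleton _).symm⟩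

theorem isConstructible_of_isClosed {X : Type u} [TopologicalSpace X] [NoetherianSpace X] {E : Set X}
    (hE : IsClosed E) : IsConstructible E :=
  isConstructible_compl.1 ((NoetherianSpace.isCompact _).isConstructible hE.isOpen_compl)

variable [IsLocallyNoetherian S] [LocallyOfFiniteType G.hom]

/-- Over a neighbourhood of a maximal point `s` of a closed set `T`, the neutral components are stable
under generization inside the preimage of `T`. -/
theorem exists_gen_stable {T : Set S} (hT : IsClosed T) {s : S} (hmax : ∀ t ∈ T, t ⤳ s → t = s) :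
    ∃ U : S.Opens, s ∈ U ∧ ∀ w z : G.left, w ⤳ z → G.hom z ∈ U → G.hom w ∈ T →
      z ∈ SGA3x.neutralSet G → w ∈ SGA3x.neutralSet G := by
  classical
  have : IsLocallyNoetherian G.left := LocallyOfFiniteType.isLocallyNoetherian G.hom
  have : LocallyOfFinitePresentation G.hom :=
    LocallyOfFinitePresentation.iff_locallyOfFiniteType.2 inferInstance
  have hN := Deform.Neutral.isLocallyConstructible_neutralSet (G := G)
  obtain ⟨V, C, hsV, _, hC, -, hNC⟩ := GrpSchLib.Neutral.exists_compact G s
  have haff : ∀ x : G.left, ∃ W : G.left.Opens, IsAffineOpen W ∧ x ∈ W := fun x => by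
    obtain ⟨W, hW, hxW, -⟩ := exists_isAffineOpen_mem_and_subset (show x ∈ (⊤ : G.left.Opens) from trivial)
    exact ⟨W, hW, hxW⟩
  choose W hW hxW using haff
  obtain ⟨F, hF⟩ := hC.elim_finite_subcover (fun x => (W x : Set G.left)) (fun x => (W x).isOpen)
    (fun x _ => Set.mem_iUnion.2 ⟨x, hxW x⟩)
  let D : ∀ x, Set (W x).toScheme := fun x => (W x).ι ⁻¹' (G.hom ⁻¹' T \ SGA3x.neutralSet G)
  let E : ∀ x, Set (W x).toScheme := fun x => closure (D x) ∩ (W x).ι ⁻¹' SGA3x.neutralSet G
  have hD : ∀ x, IsConstructible (D x) := fun x => by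
    have : IsAffine (W x).toScheme := hW x
    have : IsNoetherian (W x).toScheme := {}
    refine (isConstructible_of_isClosed (hT.preimage ((W x).ι ≫ G.hom).continuous)).sdiff ?_
    exact (AlgSpDec.isLocallyConstructible_preimage_hom (W x).ι hN).isConstructible
  have hE : ∀ x, IsConstructible (E x) := fun x => by
    have : IsAffine (W x).toScheme := hW x
    have : IsNoetherian (W x).toScheme := {}
    exact (isConstructible_of_isClosed isClosed_closure).inter
      (AlgSpDec.isLocallyConstructible_preimage_hom (W x).ι hN).isConstructible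
  have hbad : ∀ x, s ∉ closure (((W x).ι ≫ G.hom) '' E x) := by
    intro x hs
    have : IsAffine (W x).toScheme := hW x
    obtain ⟨z, ⟨hzD, hzN⟩, hzs⟩ := ProConsLib.exists_specializes_of_mem_closure_image_scheme
      (isProConstructible_of_isConstructible (hE x)) ((W x).ι ≫ G.hom) hs
    obtain ⟨w, ⟨hwT, hwN⟩, hwz⟩ := ProConsLib.exists_specializes_of_mem_closure
      (isProConstructible_of_isConstructible (hD x)) hzD
    have h1 : (W x).ι w ⤳ (W x).ι z := hwz.map (W x).ι.continuous
    have hz : G.hom ((W x).ι z) = s := hmax _ ((h1.map G.hom.continuous).mem_closed hT hwT) hzs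
    have hw : G.hom ((W x).ι w) = s := hmax _ hwT ((h1.map G.hom.continuous).trans hzs)
    exact hwN (mem_neutralSet_of_specializes_fibre h1 (hw.trans hz.symm) hzN)
  let U : S.Opens := V ⊓ ⟨(⋃ x ∈ F, closure (((W x).ι ≫ G.hom) '' E x))ᶜ,
    (isClosed_biUnion_finset fun x _ => isClosed_closure).isOpen_compl⟩
  refine ⟨U, ⟨hsV, fun h => ?_⟩, fun w z hwz hzU hwT hzN => ?_⟩
  · obtain ⟨x, -, hx⟩ := Set.mem_iUnion₂.1 h
    exact hbad x hx
  · by_contra hwN
    obtain ⟨x, hxF, hzx⟩ := Set.mem_iUnion₂.1 (hF (hNC ⟨hzN, hzU.1⟩))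
    let z' : (W x).toScheme := ⟨z, hzx⟩
    let w' : (W x).toScheme := ⟨w, hwz.mem_open (W x).isOpen hzx⟩
    have hwz' : w' ⤳ z' := (W x).ι.isOpenEmbedding.isInducing.specializes_iff.1 hwz
    have hz' : z' ∈ E x := ⟨hwz'.mem_closed isClosed_closure (subset_closure (show w' ∈ D x from ⟨hwT, hwN⟩)), hzN⟩
    exact hzU.2 (Set.mem_iUnion₂.2 ⟨x, hxF, subset_closure ⟨z', hz', rfl⟩⟩)

end Groth.Agent.TorsBound
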